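import Mathlib.AlgebraicGeometry.Morphisms.FinitePresentation
import Mathlib.AlgebraicGeometry.Morphisms.Flat
import Mathlib.RingTheory.Ideal.GoingDown
import Mathlib.RingTheory.LocalRing.ResidueField.Fiber
import Mathlib.RingTheory.FiniteType
import Mathlib.RingTheory.Ideal.MinimalPrime.Noetherian
import Mathlib.RingTheory.Spectrum.Prime.Topology

/-!
# Irreducible components of flat schemes locally of finite presentation
-/

set_option autoImplicit false

universe u

open CategoryTheory AlgebraicGeometry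

namespace Groth.Agent.Lib.EtaPt.FlatComponents

theorem finite_minimalPrimes_of_flat (A B : Type u) [CommRing A] [CommRing B] [Algebra A B]
    [Module.Flat A B] [Algebra.FiniteType A B] (hA : (minimalPrimes A).Finite) :
    (minimalPrimes B).Finite := by
  have key : ∀ p : PrimeSpectrum A,
      {q : Ideal B | q ∈ minimalPrimes B ∧ q.comap (algebraMap A B) = p.asIdeal}.Finite := by
    intro p
    let e := PrimeSpectrum.preimageOrderIsoFiber A B p
    have : IsNoetherianRing (p.asIdeal.Fiber B) :=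
      Algebra.FiniteType.isNoetherianRing p.asIdeal.ResidueField _
    have hfin : {Q : PrimeSpectrum (p.asIdeal.Fiber B) | Q.asIdeal ∈ minimalPrimes _}.Finite :=
      (minimalPrimes.finite_of_isNoetherianRing _).preimage fun a _ b _ h => PrimeSpectrum.ext h
    refine (hfin.image fun Q => (e.symm Q).1.asIdeal).subset fun q hq => ?_
    have hqp : q.IsPrime := hq.1.1.1
    let x : ↥(PrimeSpectrum.comap (algebraMap A B) ⁻¹' {p}) :=
      ⟨⟨q, hqp⟩, PrimeSpectrum.ext hq.2⟩
    refine ⟨e x, ⟨⟨(e x).2, bot_le⟩, fun Q hQ hle => ?_⟩, by simp [x]⟩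
    have hQp : Q.IsPrime := hQ.1
    obtain ⟨y, hy⟩ := e.surjective ⟨Q, hQp⟩
    have hle' : y ≤ x := e.le_iff_le.mp (by rw [hy]; exact hle)
    have hyx : y = x := Subtype.ext (PrimeSpectrum.ext
      (le_antisymm hle' (hq.1.2 ⟨y.1.2, bot_le⟩ hle')))
    rw [← hyx, hy]
  refine (hA.biUnion' fun P (hP : P ∈ minimalPrimes A) => key ⟨P, hP.1.1⟩).subset fun q hq => ?_
  have hqp : q.IsPrime := hq.1.1
  refine Set.mem_iUnion₂.mpr ⟨q.comap (algebraMap A B), ⟨⟨inferInstance, bot_le⟩, fun P hP hle => ?_⟩,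
    hq, rfl⟩
  have hPp : P.IsPrime := hP.1
  have : q.LiesOver (q.comap (algebraMap A B)) := ⟨rfl⟩
  obtain ⟨Q, hQq, hQ, hQP⟩ := Ideal.exists_ideal_le_liesOver_of_le (p := P) q hle
  have : Q = q := le_antisymm hQq (hq.2 ⟨hQ, bot_le⟩ hQq)
  subst this
  exact le_of_eq hQP.over.symm

theorem finite_irreducibleComponents_spec_iff (R : Type u) [CommRing R] :
    (irreducibleComponents (PrimeSpectrum R)).Finite ↔ (minimalPrimes R).Finite := by
  rw [← PrimeSpectrum.vanishingIdeal_irreducibleComponents]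
  refine (Set.finite_image_iff fun s hs t ht h => ?_).symm
  have h1 := congrArg (fun I : Ideal R => PrimeSpectrum.zeroLocus (I : Set R)) h
  simp only [PrimeSpectrum.zeroLocus_vanishingIdeal_eq_closure] at h1
  rwa [(isClosed_of_mem_irreducibleComponents s hs).closure_eq,
    (isClosed_of_mem_irreducibleComponents t ht).closure_eq] at h1

theorem finite_of_homeomorph {X Y : Type u} [TopologicalSpace X] [TopologicalSpace Y]
    (e : X ≃ₜ Y) (h : (irreducibleComponents X).Finite) : (irreducibleComponents Y).Finite := by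
  refine (h.image fun t => e.symm ⁻¹' t).subset fun t ht => ⟨e ⁻¹' t, ?_, ?_⟩
  · refine preimage_mem_irreducibleComponents ht e.isOpenEmbedding ?_
    rw [e.surjective.range_eq, Set.inter_univ]
    exact ht.1.nonempty
  · ext y; simp

theorem finite_of_open_cover {X : Type u} [TopologicalSpace X] {ι : Type*} [Finite ι] (W : ι → Set X)
    (hW : ∀ i, IsOpen (W i)) (hcov : Set.univ ⊆ ⋃ i, W i)
    (h : ∀ i, (irreducibleComponents (W i)).Finite) : (irreducibleComponents X).Finite := by
  refine (Set.finite_iUnion fun i => (h i).image fun t => closure (Subtype.val '' t)).subset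
    fun Z hZ => ?_
  obtain ⟨z, hz⟩ := hZ.1.nonempty
  obtain ⟨i, hi⟩ := Set.mem_iUnion.mp (hcov (Set.mem_univ z))
  refine Set.mem_iUnion.mpr ⟨i, Subtype.val ⁻¹' Z, preimage_mem_irreducibleComponents hZ
    (hW i).isOpenEmbedding_subtypeVal ⟨z, hz, ⟨z, hi⟩, rfl⟩, ?_⟩
  change closure (Subtype.val '' (Subtype.val ⁻¹' Z)) = Z
  rw [Set.image_preimage_eq_inter_range, Subtype.range_coe]
  refine le_antisymm ((closure_mono Set.inter_subset_left).trans
    (isClosed_of_mem_irreducibleComponents Z hZ).closure_eq.subset) ?_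
  exact subset_closure_inter_of_isPreirreducible_of_isOpen hZ.1.2 (hW i) ⟨z, hz, hi⟩

theorem finite_components_of_flat {Y X : Scheme.{u}} (f : Y ⟶ X) [Flat f]
    [LocallyOfFinitePresentation f]
    (hX : ∀ U : X.Opens, IsCompact (U : Set X) → (irreducibleComponents (U : Type u)).Finite)
    (V : Y.Opens) (hV : IsCompact (V : Set Y)) : (irreducibleComponents (V : Type u)).Finite := by
  classical
  have key : ∀ y : Y, y ∈ V → ∃ W : Y.Opens, y ∈ W ∧ W ≤ V ∧
      (irreducibleComponents (W : Type u)).Finite := by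
    intro y hy
    obtain ⟨U, hU, hyU, -⟩ := exists_isAffineOpen_mem_and_subset (x := f y) (U := (⊤ : X.Opens)) trivial
    obtain ⟨W, hW, hyW, hWle⟩ := exists_isAffineOpen_mem_and_subset
      (x := y) (U := V ⊓ f ⁻¹ᵁ U) ⟨hy, hyU⟩
    refine ⟨W, hyW, fun z hz => (hWle hz).1, ?_⟩
    have e : W ≤ f ⁻¹ᵁ U := fun z hz => (hWle hz).2
    have hflat := f.flat_appLE hU hW e
    have hfp := f.finitePresentation_appLE hU hW e
    algebraize [(f.appLE U W e).hom]
    have hA : (minimalPrimes Γ(X, U)).Finite :=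
      (finite_irreducibleComponents_spec_iff _).mp
        (finite_of_homeomorph (Scheme.homeoOfIso hU.isoSpec) (hX U hU.isCompact))
    exact finite_of_homeomorph (Scheme.homeoOfIso hW.isoSpec).symm
      ((finite_irreducibleComponents_spec_iff _).mpr
        (finite_minimalPrimes_of_flat Γ(X, U) Γ(Y, W) hA))
  choose W hyW hWV hWfin using key
  obtain ⟨t, ht⟩ := hV.elim_finite_subcover (fun y : V => (W y.1 y.2 : Set Y))
    (fun y => (W y.1 y.2).isOpen) (fun y hy => Set.mem_iUnion.mpr ⟨⟨y, hy⟩, hyW y hy⟩)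
  refine finite_of_open_cover (X := (V : Type u))
    (fun i : t => Subtype.val ⁻¹' (W i.1.1 i.1.2 : Set Y))
    (fun i => (W i.1.1 i.1.2).isOpen.preimage continuous_subtype_val) (fun z _ => ?_) (fun i => ?_)
  · obtain ⟨i, hi, hzi⟩ := Set.mem_iUnion₂.mp (ht z.2)
    exact Set.mem_iUnion.mpr ⟨⟨i, hi⟩, hzi⟩
  · refine finite_of_homeomorph (?_ : (W i.1.1 i.1.2 : Type u) ≃ₜ _) (hWfin i.1.1 i.1.2)
    exact { toFun := fun w => ⟨⟨w.1, hWV _ _ w.2⟩, w.2⟩
            invFun := fun w => ⟨w.1.1, w.2⟩
            left_inv := fun _ => rfl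
            right_inv := fun _ => rfl
            continuous_toFun := (continuous_subtype_val.subtype_mk _).subtype_mk _
            continuous_invFun := (continuous_subtype_val.comp continuous_subtype_val).subtype_mk _ }

end Groth.Agent.Lib.EtaPt.FlatComponents
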