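import Groth.Prelude.Def_HTop2
import Mathlib.AlgebraicGeometry.ResidueField
import Mathlib.AlgebraicGeometry.Morphisms.UniversallyInjective
import Mathlib.AlgebraicGeometry.Morphisms.Integral
import Groth.Agent.Lib.UnivHomeo.Basic

/-!
# Residue field maps of `Spec φ` and universal homeomorphisms
-/

set_option autoImplicit false

universe u

open CategoryTheory AlgebraicGeometry

namespace Groth.Agent.Lib.EtaPt.SpecResidue

variable {A B : Type u} [CommRing A] [CommRing B] (φ : A →+* B)

theorem residueFieldIso_square (Q : PrimeSpectrum B) :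
    (Scheme.Spec.residueFieldIso (.of A) (PrimeSpectrum.comap φ Q)).inv ≫
        (Spec.map (CommRingCat.ofHom φ)).residueFieldMap Q =
      CommRingCat.ofHom (Ideal.ResidueField.map (PrimeSpectrum.comap φ Q).asIdeal Q.asIdeal φ rfl) ≫
        (Scheme.Spec.residueFieldIso (.of B) Q).inv := by
  refine CommRingCat.hom_ext (Ideal.ResidueField.ringHom_ext ?_)
  have key : CommRingCat.ofHom (algebraMap A (PrimeSpectrum.comap φ Q).asIdeal.ResidueField) ≫
      (Scheme.Spec.residueFieldIso (.of A) (PrimeSpectrum.comap φ Q)).inv ≫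
        (Spec.map (CommRingCat.ofHom φ)).residueFieldMap Q =
      CommRingCat.ofHom (algebraMap A (PrimeSpectrum.comap φ Q).asIdeal.ResidueField) ≫
        CommRingCat.ofHom (Ideal.ResidueField.map (PrimeSpectrum.comap φ Q).asIdeal Q.asIdeal φ rfl) ≫
          (Scheme.Spec.residueFieldIso (.of B) Q).inv := by
    have hφ : CommRingCat.ofHom (algebraMap A (PrimeSpectrum.comap φ Q).asIdeal.ResidueField) ≫
        CommRingCat.ofHom (Ideal.ResidueField.map (PrimeSpectrum.comap φ Q).asIdeal Q.asIdeal φ rfl) =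
        CommRingCat.ofHom φ ≫ CommRingCat.ofHom (algebraMap B Q.asIdeal.ResidueField) :=
      CommRingCat.hom_ext (RingHom.ext fun a => Ideal.ResidueField.map_algebraMap _ _ φ rfl a)
    rw [reassoc_of% hφ]
    refine (Scheme.Spec.algebraMap_residueFieldIso_inv_assoc (.of A) _ _).trans ?_
    refine Eq.trans ?_ (congrArg (CommRingCat.ofHom φ ≫ ·)
      (Scheme.Spec.algebraMap_residueFieldIso_inv (.of B) Q).symm)
    refine (congrArg ((Scheme.ΓSpecIso (.of A)).inv ≫ ·)
      (Scheme.Γevaluation_naturality (Spec.map (CommRingCat.ofHom φ)) Q)).trans ?_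
    exact (Scheme.ΓSpecIso_inv_naturality_assoc (CommRingCat.ofHom φ) _).symm
  exact congrArg CommRingCat.Hom.hom key

theorem residueFieldsIso_iff :
    HTop.ResidueFieldsIso (Spec.map (CommRingCat.ofHom φ)) ↔
      ∀ Q : PrimeSpectrum B, Function.Bijective
        (Ideal.ResidueField.map (PrimeSpectrum.comap φ Q).asIdeal Q.asIdeal φ rfl) := by
  refine forall_congr' fun (Q : PrimeSpectrum B) => ?_
  have h := residueFieldIso_square φ Q
  constructor
  · intro hi
    have : IsIso ((Spec.map (CommRingCat.ofHom φ)).residueFieldMap Q) := hi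
    have : IsIso (CommRingCat.ofHom
        (Ideal.ResidueField.map (PrimeSpectrum.comap φ Q).asIdeal Q.asIdeal φ rfl) ≫
        (Scheme.Spec.residueFieldIso (.of B) Q).inv) := h ▸ IsIso.comp_isIso' inferInstance hi
    have := IsIso.of_isIso_comp_right (CommRingCat.ofHom
        (Ideal.ResidueField.map (PrimeSpectrum.comap φ Q).asIdeal Q.asIdeal φ rfl))
        (Scheme.Spec.residueFieldIso (.of B) Q).inv
    exact (ConcreteCategory.isIso_iff_bijective _).mp this
  · intro hb
    have : IsIso (CommRingCat.ofHom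
        (Ideal.ResidueField.map (PrimeSpectrum.comap φ Q).asIdeal Q.asIdeal φ rfl)) :=
      (ConcreteCategory.isIso_iff_bijective _).mpr hb
    have : IsIso ((Scheme.Spec.residueFieldIso (.of A) (PrimeSpectrum.comap φ Q)).inv ≫
        (Spec.map (CommRingCat.ofHom φ)).residueFieldMap Q) := h ▸ IsIso.comp_isIso
    exact IsIso.of_isIso_comp_left (Scheme.Spec.residueFieldIso (.of A) (PrimeSpectrum.comap φ Q)).inv _

theorem isUnivHomeo_of_bijective (hint : φ.IsIntegral)
    (hb : Function.Bijective (PrimeSpectrum.comap φ))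
    (hres : ∀ Q : PrimeSpectrum B, Function.Bijective
      (Ideal.ResidueField.map (PrimeSpectrum.comap φ Q).asIdeal Q.asIdeal φ rfl)) :
    FlatMor.IsUnivHomeo (Spec.map (CommRingCat.ofHom φ)) := by
  have hsurj : Surjective (Spec.map (CommRingCat.ofHom φ)) := ⟨hb.2⟩
  have hi : UniversallyInjective (Spec.map (CommRingCat.ofHom φ)) := by
    refine ((tfae_universallyInjective (Spec.map (CommRingCat.ofHom φ))).out 0 1).mpr ?_
    intro K _ g₁ g₂ h
    obtain ⟨a, rfl⟩ := Spec.map_surjective g₁
    obtain ⟨b, rfl⟩ := Spec.map_surjective g₂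
    have hab : a.hom.comp φ = b.hom.comp φ := congrArg CommRingCat.Hom.hom
      (Spec.map_inj.mp ((Spec.map_comp _ a).trans (h.trans (Spec.map_comp _ b).symm)))
    refine congrArg Spec.map (CommRingCat.hom_ext ?_)
    let Qa : PrimeSpectrum B := ⟨RingHom.ker a.hom, RingHom.ker_isPrime _⟩
    let Qb : PrimeSpectrum B := ⟨RingHom.ker b.hom, RingHom.ker_isPrime _⟩
    have e : Qa = Qb := hb.1 (PrimeSpectrum.ext (by
      change Ideal.comap φ (RingHom.ker a.hom) = Ideal.comap φ (RingHom.ker b.hom)
      rw [RingHom.comap_ker, RingHom.comap_ker, hab]))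
    have hQ : Qa.asIdeal.IsPrime := Qa.2
    have hu : ∀ (c : B →+* K), RingHom.ker c = Qa.asIdeal →
        Qa.asIdeal.primeCompl ≤ (IsUnit.submonoid K).comap c := fun c hc s hs => by
      refine isUnit_iff_ne_zero.mpr fun h0 => hs ?_
      rw [← hc]
      exact h0
    let la := Ideal.ResidueField.lift Qa.asIdeal a.hom le_rfl (hu _ rfl)
    have hkb : RingHom.ker b.hom = Qa.asIdeal := (congrArg PrimeSpectrum.asIdeal e).symm
    let lb := Ideal.ResidueField.lift Qa.asIdeal b.hom hkb.ge (hu _ hkb)
    have hl : la.comp (Ideal.ResidueField.map _ Qa.asIdeal φ rfl) =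
        lb.comp (Ideal.ResidueField.map _ Qa.asIdeal φ rfl) :=
      Ideal.ResidueField.ringHom_ext (RingHom.ext fun x => by
        simp only [RingHom.comp_apply, la, lb]
        erw [Ideal.ResidueField.map_algebraMap]
        rw [Ideal.ResidueField.lift_algebraMap, Ideal.ResidueField.lift_algebraMap]
        exact DFunLike.congr_fun hab x)
    have hab' : la = lb := RingHom.ext fun z => by
      obtain ⟨w, rfl⟩ := (hres Qa).2 z
      exact DFunLike.congr_fun hl w
    ext x
    have := DFunLike.congr_fun hab' (algebraMap B Qa.asIdeal.ResidueField x)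
    simpa [la, lb, Ideal.ResidueField.lift_algebraMap] using this
  exact (Groth.Agent.Lib.UnivHomeo.Basic.iff_integral_universallyInjective_surjective _).mpr
    ⟨IsIntegralHom.SpecMap_iff.mpr hint, hi, hsurj⟩

theorem of_isUnivHomeo (h : FlatMor.IsUnivHomeo (Spec.map (CommRingCat.ofHom φ))) :
    φ.IsIntegral ∧ Function.Bijective (PrimeSpectrum.comap φ) :=
  ⟨IsIntegralHom.SpecMap_iff.mp (Groth.Agent.Lib.UnivHomeo.Basic.isIntegralHom h),
    (Groth.Agent.Lib.UnivHomeo.Basic.isHomeomorph h).bijective⟩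

end Groth.Agent.Lib.EtaPt.SpecResidue
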