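import Groth.Agent.Lib.EtaPt.Main
import Groth.Prelude.Def_EGA4b
import Mathlib.RingTheory.Localization.AtPrime.Basic

/-!
# Minimal primes of normal rings
-/

set_option autoImplicit false

universe u

namespace Groth.Agent.Lib.EtaPt.Normal

open Groth.Agent.Lib.EtaPt.Basic Groth.Agent.Lib.EtaPt.Main

variable {A : Type u} [CommRing A]

theorem ker_le_minimalPrime {K m : Ideal A} [m.IsPrime] (hK : K.IsPrime) (hle : K ≤ m) :
    RingHom.ker (algebraMap A (Localization.AtPrime m)) ≤ K := by
  intro c hc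
  have hh : algebraMap A (Localization.AtPrime m) c = 0 := hc
  obtain ⟨s, hs⟩ := (IsLocalization.map_eq_zero_iff m.primeCompl _ c).mp hh
  have h0 : (s : A) * c ∈ K := by rw [hs]; exact K.zero_mem
  exact (hK.mem_or_mem h0).resolve_left fun h => s.2 (hle h)

theorem isPrime_ker_localization (hn : EGA4.IsNormalRing A) (m : Ideal A) [m.IsPrime] :
    (RingHom.ker (algebraMap A (Localization.AtPrime m))).IsPrime :=
  have hd : IsDomain (Localization.AtPrime m) := (hn m).1
  RingHom.ker_isPrime _

theorem minimalPrime_eq_ker (hn : EGA4.IsNormalRing A) {K m : Ideal A} [m.IsPrime]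
    (hK : K ∈ minimalPrimes A) (hle : K ≤ m) :
    K = RingHom.ker (algebraMap A (Localization.AtPrime m)) :=
  le_antisymm (hK.2 ⟨isPrime_ker_localization hn m, bot_le⟩ (ker_le_minimalPrime hK.1.1 hle))
    (ker_le_minimalPrime hK.1.1 hle)

theorem exists_preimage {L K : Type u} [CommRing L] [IsDomain L] [IsIntegrallyClosed L] [Field K]
    (φ : L →+* K) (hφ : Function.Injective φ) {c : K} {a s : L} (hc : c = φ a / φ s)
    (hint : φ.IsIntegralElem c) : ∃ z, φ z = c := by
  let F : FractionRing L →+* K := IsFractionRing.lift hφ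
  have hF : F.comp (algebraMap L _) = φ :=
    RingHom.ext fun z => IsFractionRing.lift_algebraMap hφ z
  have hd : F (algebraMap L (FractionRing L) a / algebraMap L (FractionRing L) s) = c := by
    rw [map_div₀, IsFractionRing.lift_algebraMap, IsFractionRing.lift_algebraMap, hc]
  obtain ⟨z, hz⟩ := exists_eq_of_isIntegralElem (R := L) (K := FractionRing L)
    (isIntegralElem_of_map _ F F.injective (by rw [hF, hd]; exact hint))
  exact ⟨z, by rw [← hd, ← hz, ← RingHom.comp_apply F, hF]⟩

theorem exists_mul_mem_range (hn : EGA4.IsNormalRing A) (p : PrimeSpectrum A)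
    (hp : p.asIdeal ∈ minimalPrimes A) (m : Ideal A) [m.IsPrime] (hpm : p.asIdeal ≤ m)
    (c : p.asIdeal.ResidueField) (hint : (res p).IsIntegralElem c) :
    ∃ s, s ∉ m ∧ ∃ a, res p a = res p s * c := by
  obtain ⟨hdom, hic⟩ := hn m
  let L := Localization.AtPrime m
  let f : A →+* L := algebraMap A L
  have hu : ∀ s : m.primeCompl, IsUnit (res p s) := fun s => isUnit_iff_ne_zero.mpr fun h =>
    s.2 (hpm (Ideal.algebraMap_residueField_eq_zero.mp h))
  let φ : L →+* p.asIdeal.ResidueField := IsLocalization.lift hu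
  have hφ : φ.comp f = res p := IsLocalization.lift_comp hu
  have hφinj : Function.Injective φ := (injective_iff_map_eq_zero φ).mpr fun z hz => by
    obtain ⟨a, s, rfl⟩ := IsLocalization.exists_mk'_eq m.primeCompl z
    have h1 := congrArg φ (IsLocalization.mk'_spec L a s)
    rw [map_mul, hz, zero_mul] at h1
    have h2 : a ∈ p.asIdeal :=
      Ideal.algebraMap_residueField_eq_zero.mp ((DFunLike.congr_fun hφ a).symm.trans h1.symm)
    rw [minimalPrime_eq_ker hn hp hpm] at h2
    rw [IsLocalization.mk'_eq_mul_mk'_one, RingHom.mem_ker.mp h2, zero_mul]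
  obtain ⟨a, s, hc⟩ : ∃ a s : L, c = φ a / φ s := by
    obtain ⟨a, s, -, rfl⟩ := IsFractionRing.div_surjective (A := A ⧸ p.asIdeal) c
    obtain ⟨a, rfl⟩ := Ideal.Quotient.mk_surjective a
    obtain ⟨s, rfl⟩ := Ideal.Quotient.mk_surjective s
    exact ⟨f a, f s, by rw [← RingHom.comp_apply φ f, ← RingHom.comp_apply φ f, hφ]; rfl⟩
  obtain ⟨z, hzc⟩ := exists_preimage φ hφinj hc (isIntegralElem_of_comp f φ (by rw [hφ]; exact hint))
  obtain ⟨⟨a, s⟩, hz⟩ := IsLocalization.surj m.primeCompl z
  refine ⟨s, s.2, a, ?_⟩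
  rw [← hzc, ← hφ, RingHom.comp_apply, RingHom.comp_apply, ← hz,
    map_mul, mul_comm]

end Groth.Agent.Lib.EtaPt.Normal
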