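import Groth.Prelude.Def_W4c1chowmix47Eta
import Mathlib.RingTheory.Valuation.LocalSubring
import Mathlib.RingTheory.Ideal.MinimalPrime.Basic
import Mathlib.RingTheory.IntegralClosure.IntegrallyClosed
import Mathlib.Algebra.CharP.Reduced
import Mathlib.Algebra.CharP.Algebra

/-!
# Basic calculus for the pointwise construction `EtaPt.FieldEndo`

The evaluation `ev η h : N_η(A) → F(L)` at a field-valued point `h : A → L` replaces
all dependent transports along primes.
-/

set_option autoImplicit false

universe u

namespace Groth.Agent.Lib.EtaPt.Basic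

open IsLocalRing

variable (η : EtaPt.FieldEndo.{u})

/-! ### Points -/

/-- The point of `Spec A` under a field-valued point. -/
def pt {A L : Type u} [CommRing A] [Field L] (h : A →+* L) : PrimeSpectrum A :=
  ⟨RingHom.ker h, RingHom.ker_isPrime h⟩

/-- The induced map on the residue field. -/
noncomputable def liftPt {A L : Type u} [CommRing A] [Field L] (h : A →+* L) :
    (pt h).asIdeal.ResidueField →+* L :=
  Ideal.ResidueField.lift _ h le_rfl fun a ha => by
    simpa [pt, isUnit_iff_ne_zero, Ideal.primeCompl, IsUnit.mem_submonoid_iff] using ha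

theorem liftPt_algebraMap {A L : Type u} [CommRing A] [Field L] (h : A →+* L) (a : A) :
    liftPt h (algebraMap A _ a) = h a :=
  Ideal.ResidueField.lift_algebraMap ..

theorem liftPt_comp {A L : Type u} [CommRing A] [Field L] (h : A →+* L) :
    (liftPt h).comp (algebraMap A _) = h :=
  RingHom.ext (liftPt_algebraMap h)

/-- The tautological point at a prime. -/
noncomputable abbrev res {A : Type u} [CommRing A] (p : PrimeSpectrum A) :
    A →+* p.asIdeal.ResidueField :=
  algebraMap A p.asIdeal.ResidueField

theorem pt_eq_of_comp {A L : Type u} [CommRing A] [Field L] {h : A →+* L} (p : PrimeSpectrum A)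
    (σ : p.asIdeal.ResidueField →+* L) (hσ : σ.comp (res p) = h) : pt h = p := by
  apply PrimeSpectrum.ext
  ext a
  change h a = 0 ↔ a ∈ p.asIdeal
  rw [← hσ, RingHom.comp_apply, map_eq_zero, Ideal.algebraMap_residueField_eq_zero]

theorem pt_res {A : Type u} [CommRing A] (p : PrimeSpectrum A) : pt (res p) = p :=
  pt_eq_of_comp p (RingHom.id _) (RingHom.id_comp _)

theorem pt_comp {A B L : Type u} [CommRing A] [CommRing B] [Field L] (f : A →+* B) (h : B →+* L) :
    pt (h.comp f) = PrimeSpectrum.comap f (pt h) :=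
  PrimeSpectrum.ext (RingHom.comap_ker h f).symm

/-! ### Evaluation -/

/-- `ev η h x` : the value of `x ∈ N_η(A)` at the field-valued point `h`. -/
noncomputable def ev {A L : Type u} [CommRing A] [Field L] (h : A →+* L) : η.N A →+* η.obj L :=
  (η.map (liftPt h)).comp
    (Pi.evalRingHom (fun p : PrimeSpectrum A => η.obj p.asIdeal.ResidueField) (pt h))

theorem ev_eq {A L : Type u} [CommRing A] [Field L] {h : A →+* L} (p : PrimeSpectrum A)
    (σ : p.asIdeal.ResidueField →+* L) (hσ : σ.comp (res p) = h) (x : η.N A) :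
    ev η h x = η.map σ (x p) := by
  have e := (pt_eq_of_comp p σ hσ).symm
  subst e
  have : σ = liftPt h := Ideal.ResidueField.ringHom_ext (hσ.trans (liftPt_comp h).symm)
  rw [this]
  rfl

theorem ev_res {A : Type u} [CommRing A] (p : PrimeSpectrum A) (x : η.N A) :
    ev η (res p) x = x p := by
  rw [ev_eq η p (RingHom.id _) (RingHom.id_comp _), η.map_id]
  rfl

theorem N_ext {A : Type u} [CommRing A] {x y : η.N A}
    (h : ∀ p : PrimeSpectrum A, ev η (res p) x = ev η (res p) y) : x = y :=
  funext fun p => by simpa [ev_res] using h p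

theorem map_eta_apply {K L : Type u} [Field K] [Field L] (σ : K →+* L) (c : K) :
    η.map σ (η.eta K c) = η.eta L (σ c) :=
  DFunLike.congr_fun (η.eta_natural σ) c

theorem map_map {K L E : Type u} [Field K] [Field L] [Field E] (σ : K →+* L) (τ : L →+* E)
    (c : η.obj K) : η.map τ (η.map σ c) = η.map (τ.comp σ) c :=
  (DFunLike.congr_fun (η.map_comp σ τ) c).symm

theorem ev_t {A L : Type u} [CommRing A] [Field L] (h : A →+* L) (a : A) :
    ev η h (η.t A a) = η.eta L (h a) := by
  change η.map (liftPt h) (η.eta _ (algebraMap A _ a)) = _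
  rw [map_eta_apply, liftPt_algebraMap]

theorem ev_comp {A L L' : Type u} [CommRing A] [Field L] [Field L'] (h : A →+* L) (σ : L →+* L')
    (x : η.N A) : ev η (σ.comp h) x = η.map σ (ev η h x) := by
  rw [ev_eq η (pt h) (σ.comp (liftPt h)) (by rw [RingHom.comp_assoc, liftPt_comp])]
  exact (map_map η _ _ _).symm

theorem ev_Nmap {A B L : Type u} [CommRing A] [CommRing B] [Field L] (f : A →+* B) (h : B →+* L)
    (x : η.N A) : ev η h (η.Nmap f x) = ev η (h.comp f) x := by
  rw [ev_eq η (PrimeSpectrum.comap f (pt h))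
    ((liftPt h).comp (Ideal.ResidueField.map _ (pt h).asIdeal f rfl)) (RingHom.ext fun a =>
      (congrArg (liftPt h) (Ideal.ResidueField.map_algebraMap _ _ f rfl a)).trans
        (liftPt_algebraMap h (f a)))]
  exact map_map η _ _ _

theorem Nmap_apply {A B : Type u} [CommRing A] [CommRing B] (f : A →+* B) (x : η.N A)
    (q : PrimeSpectrum B) : η.Nmap f x q = ev η ((res q).comp f) x := by
  rw [← ev_Nmap, ev_res]

theorem Nmap_comp {A B C : Type u} [CommRing A] [CommRing B] [CommRing C] (f : A →+* B)
    (g : B →+* C) (x : η.N A) : η.Nmap (g.comp f) x = η.Nmap g (η.Nmap f x) :=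
  N_ext η fun p => by simp only [ev_Nmap, RingHom.comp_assoc]

theorem ev_injective_component {A L : Type u} [CommRing A] [Field L] (h : A →+* L) (x y : η.N A)
    (e : ev η h x = ev η h y) : x (pt h) = y (pt h) :=
  (η.map (liftPt h)).injective e

theorem ev_eq_zero_iff {A L : Type u} [CommRing A] [Field L] (h : A →+* L) (p : PrimeSpectrum A)
    (hp : pt h = p) (x : η.N A) : ev η h x = 0 ↔ x p = 0 := by
  subst hp
  exact map_eq_zero_iff _ (η.map (liftPt h)).injective

/-- `N_η(f)` is injective when `Spec f` is surjective. -/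
theorem Nmap_injective {A B : Type u} [CommRing A] [CommRing B] {f : A →+* B}
    (hs : Function.Surjective (PrimeSpectrum.comap f)) : Function.Injective (η.Nmap f) := by
  intro x y e
  funext p
  obtain ⟨q, rfl⟩ := hs p
  exact (η.map (Ideal.ResidueField.map _ q.asIdeal f rfl)).injective (congrFun e q)

theorem Nmap_eq_t {A B : Type u} [CommRing A] [CommRing B] (f : A →+* B) (a : A) :
    η.Nmap f (η.t A a) = η.t B (f a) := η.Nmap_t_apply f a

theorem t_eq_zero_iff {A : Type u} [CommRing A] (a : A) : η.t A a = 0 ↔ IsNilpotent a := by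
  rw [← mem_nilradical, nilradical_eq_sInf, Ideal.mem_sInf]
  constructor
  · intro h P hP
    have : P.IsPrime := hP
    have := congrFun h ⟨P, ‹_›⟩
    exact Ideal.algebraMap_residueField_eq_zero.mp ((map_eq_zero (η.eta _)).mp this)
  · intro h
    funext p
    change η.eta _ (algebraMap A _ a) = 0
    rw [Ideal.algebraMap_residueField_eq_zero.mpr (h p.isPrime), map_zero]

theorem t_injective (A : Type u) [CommRing A] [IsReduced A] : Function.Injective (η.t A) :=
  (injective_iff_map_eq_zero _).mpr fun a ha => ((t_eq_zero_iff η a).mp ha).eq_zero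

/-! ### The endofunctor on fields -/

theorem map_bijective_of_bijective {K L : Type u} [Field K] [Field L] (σ : K →+* L)
    (hσ : Function.Bijective σ) : Function.Bijective (η.map σ) := by
  let e := RingEquiv.ofBijective σ hσ
  refine Function.bijective_iff_has_inverse.mpr ⟨η.map e.symm.toRingHom, fun c => ?_, fun c => ?_⟩
  · rw [map_map, show e.symm.toRingHom.comp σ = RingHom.id K from
      RingHom.ext e.symm_apply_apply, η.map_id]
    rfl
  · rw [map_map, show σ.comp e.symm.toRingHom = RingHom.id L from
      RingHom.ext e.apply_symm_apply, η.map_id]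
    rfl

theorem eta_bijective_of_iso {K L : Type u} [Field K] [Field L] (σ : K →+* L)
    (hσ : Function.Bijective σ) (hK : Function.Bijective (η.eta K)) :
    Function.Bijective (η.eta L) := by
  refine ⟨(η.eta L).injective, fun y => ?_⟩
  obtain ⟨z, rfl⟩ := (map_bijective_of_bijective η σ hσ).2 y
  obtain ⟨k, rfl⟩ := hK.2 z
  exact ⟨σ k, (map_eta_apply η σ k).symm⟩

theorem pow_inj_of_expChar {L : Type u} [Field L] (e : ℕ) [ExpChar L e] (n : ℕ) {x y : L}
    (h : x ^ e ^ n = y ^ e ^ n) : x = y :=
  iterateFrobenius_inj L e n (by simpa [iterateFrobenius_def] using h)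

theorem map_eta_eq (K : Type u) [Field K] : η.map (η.eta K) = η.eta (η.obj K) := by
  ext x
  obtain ⟨n, a, ha⟩ := η.exists_pow_mem_range_eta K x
  have : ExpChar (η.obj (η.obj K)) (ringExpChar K) :=
    expChar_of_injective_ringHom ((η.eta (η.obj K)).comp (η.eta K)).injective _
  apply pow_inj_of_expChar (ringExpChar K) n
  rw [← map_pow, ← map_pow, ← ha, map_eta_apply]

theorem eta_obj_bijective (K : Type u) [Field K] : Function.Bijective (η.eta (η.obj K)) :=
  map_eta_eq η K ▸ η.bijective_map_eta K

theorem hom_ext_eta {K L : Type u} [Field K] [Field L] {φ ψ : η.obj K →+* L}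
    (h : φ.comp (η.eta K) = ψ.comp (η.eta K)) : φ = ψ := by
  ext x
  obtain ⟨n, a, ha⟩ := η.exists_pow_mem_range_eta K x
  have : ExpChar L (ringExpChar K) := expChar_of_injective_ringHom (φ.comp (η.eta K)).injective _
  apply pow_inj_of_expChar (ringExpChar K) n
  rw [← map_pow, ← map_pow, ← ha]
  exact DFunLike.congr_fun h a

/-- The canonical point of `A` over the prime `p` with values in a field where `η` is bijective. -/
noncomputable abbrev etaRes {A : Type u} [CommRing A] (p : PrimeSpectrum A) :
    A →+* η.obj p.asIdeal.ResidueField :=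
  (η.eta p.asIdeal.ResidueField).comp (res p)

theorem pt_etaRes {A : Type u} [CommRing A] (p : PrimeSpectrum A) : pt (etaRes η p) = p :=
  pt_eq_of_comp p (η.eta _) rfl

theorem ev_etaRes {A : Type u} [CommRing A] (p : PrimeSpectrum A) (x : η.N A) :
    ev η (etaRes η p) x = η.eta (η.obj p.asIdeal.ResidueField) (x p) := by
  rw [ev_eq η p (η.eta _) rfl, map_eta_eq]

/-- `η` is bijective at every fraction field of a domain in `V_η`. -/
theorem inV_iff {R K : Type u} [CommRing R] [IsDomain R] [Field K] [Algebra R K]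
    [IsFractionRing R K] : η.InV R ↔ Function.Bijective (η.eta K) :=
  ⟨fun h => eta_bijective_of_iso η (FractionRing.algEquiv R K).toRingEquiv.toRingHom
      (FractionRing.algEquiv R K).bijective h,
    fun h => eta_bijective_of_iso η (FractionRing.algEquiv R K).symm.toRingEquiv.toRingHom
      (FractionRing.algEquiv R K).symm.bijective h⟩

theorem inV_valuationSubring {L : Type u} [Field L] (hL : Function.Bijective (η.eta L))
    (V : ValuationSubring L) : η.InV V :=
  (inV_iff η (K := L)).mpr hL

/-! ### Membership in `M_η` -/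

theorem exists_of_mem_M {A : Type u} [CommRing A] {x : η.N A} (hx : x ∈ η.M A) (R : Type u)
    [CommRing R] [IsDomain R] [ValuationRing R] (hR : η.InV R) (g : A →+* R) :
    ∃ a : R, ∀ (L : Type u) [Field L] (σ : R →+* L), ev η (σ.comp g) x = η.eta L (σ a) := by
  obtain ⟨a, ha⟩ := hx R hR g
  exact ⟨a, fun L _ σ => by rw [← ev_Nmap, ← ha, ev_t]⟩

theorem mem_M_of_forall {A : Type u} [CommRing A] {x : η.N A}
    (h : ∀ (R : Type u) [CommRing R] [IsDomain R] [ValuationRing R], η.InV R → ∀ g : A →+* R,
      ∃ a : R, ∀ r : PrimeSpectrum R,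
        ev η ((res r).comp g) x = η.eta r.asIdeal.ResidueField (res r a)) :
    x ∈ η.M A := by
  intro R _ _ _ hR g
  obtain ⟨a, ha⟩ := h R hR g
  exact ⟨a, N_ext η fun r => by rw [ev_Nmap, ev_t, ha r]⟩

theorem Nmap_mem_M {A B : Type u} [CommRing A] [CommRing B] (f : A →+* B) {x : η.N A}
    (hx : x ∈ η.M A) : η.Nmap f x ∈ η.M B := by
  intro R _ _ _ hR g
  rw [← Nmap_comp]
  exact hx R hR (g.comp f)

/-! ### Valuation subrings through a field-valued point -/

theorem exists_valuationSubring_of_range_le {A L : Type u} [CommRing A] [Field L] (h : A →+* L)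
    (V : ValuationSubring L) (hV : ∀ a, h a ∈ V) :
    ∃ g : A →+* V, V.subtype.comp g = h :=
  ⟨h.codRestrict V.toSubring hV, rfl⟩

theorem exists_dominating {A L : Type u} [CommRing A] [Field L] (h : A →+* L)
    (P : PrimeSpectrum A) (hP : RingHom.ker h ≤ P.asIdeal) :
    ∃ (V : ValuationSubring L) (g : A →+* V),
      V.subtype.comp g = h ∧ pt ((residue V).comp g) = P := by
  have hsurj : Function.Surjective h.rangeRestrict := h.rangeRestrict_surjective
  have hk : RingHom.ker h.rangeRestrict ≤ P.asIdeal := by rwa [RingHom.ker_rangeRestrict]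
  let P' : Ideal h.range := P.asIdeal.map h.rangeRestrict
  have : P'.IsPrime := Ideal.map_isPrime_of_surjective hsurj hk
  have hP' : P'.comap h.rangeRestrict = P.asIdeal := by
    rw [Ideal.comap_map_of_surjective _ hsurj, ← RingHom.ker_eq_comap_bot, sup_eq_left.mpr hk]
  obtain ⟨V, hV⟩ := (LocalSubring.ofPrime h.range P').exists_le_valuationSubring
  let ι : (LocalSubring.ofPrime h.range P').toSubring →+* V := Subring.inclusion hV.1
  have : IsLocalHom ι := hV.2
  let g : A →+* V :=
    ι.comp ((algebraMap h.range (LocalSubring.ofPrime h.range P').toSubring).comp h.rangeRestrict)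
  refine ⟨V, g, RingHom.ext fun a => rfl, PrimeSpectrum.ext (Ideal.ext fun a => ?_)⟩
  change residue V (g a) = 0 ↔ _
  rw [IsLocalRing.residue_eq_zero_iff, IsLocalRing.mem_maximalIdeal, mem_nonunits_iff,
    ← hP', Ideal.mem_comap]
  have h1 : IsUnit (g a) ↔ IsUnit
      (algebraMap h.range (LocalSubring.ofPrime h.range P').toSubring (h.rangeRestrict a)) :=
    ⟨fun hu => this.map_nonunit _ hu, fun hu => hu.map ι⟩
  rw [h1, IsLocalization.AtPrime.isUnit_to_map_iff _ P']
  exact not_not

/-- If `η` is bijective at `L`, the value of an element of `M_η(A)` at an `L`-valued point lies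
in every valuation subring containing the image of `A`. -/
theorem exists_val {A L : Type u} [CommRing A] [Field L] (hL : Function.Bijective (η.eta L))
    {x : η.N A} (hx : x ∈ η.M A) (h : A →+* L) (c : L) (hc : ev η h x = η.eta L c)
    (V : ValuationSubring L) (g : A →+* V) (hg : V.subtype.comp g = h) :
    ∃ a : V, (a : L) = c ∧
      ∀ (L' : Type u) [Field L'] (σ : V →+* L'), ev η (σ.comp g) x = η.eta L' (σ a) := by
  obtain ⟨a, ha⟩ := exists_of_mem_M η hx V (inV_valuationSubring η hL V) g
  refine ⟨a, (η.eta L).injective ?_, ha⟩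
  have := ha L V.subtype
  rw [hg, hc] at this
  exact this.symm

theorem isIntegralElem_of_mem_M {A L : Type u} [CommRing A] [Field L]
    (hL : Function.Bijective (η.eta L)) {x : η.N A} (hx : x ∈ η.M A) (h : A →+* L) (c : L)
    (hc : ev η h x = η.eta L c) : h.IsIntegralElem c := by
  let _ : Algebra A L := h.toAlgebra
  show IsIntegral A c
  by_contra hcon
  obtain ⟨V, hV, hcV⟩ := Subring.exists_le_valuationSubring_of_isIntegrallyClosedIn
    (R := (integralClosure A L).toSubring) hcon
  obtain ⟨g, hg⟩ := exists_valuationSubring_of_range_le h V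
    fun a => hV (isIntegral_algebraMap (R := A) (x := a))
  obtain ⟨a, rfl, -⟩ := exists_val η hL hx h c hc V g hg
  exact hcV a.2

theorem isIntegralElem_component {A : Type u} [CommRing A] {x : η.N A} (hx : x ∈ η.M A)
    (p : PrimeSpectrum A) : (etaRes η p).IsIntegralElem (x p) :=
  isIntegralElem_of_mem_M η (eta_obj_bijective η _) hx _ _ (ev_etaRes η p x)

theorem component_eq_zero_of_le {A : Type u} [CommRing A] {x : η.N A} (hx : x ∈ η.M A)
    {p q : PrimeSpectrum A} (hpq : p ≤ q) (hp : x p = 0) : x q = 0 := by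
  obtain ⟨V, g, hg, hq⟩ := exists_dominating (etaRes η p) q (by
    change (pt (etaRes η p)).asIdeal ≤ _
    rw [pt_etaRes]
    exact hpq)
  obtain ⟨a, ha, ha'⟩ := exists_val η (eta_obj_bijective η _) hx (etaRes η p) (x p)
    (ev_etaRes η p x) V g hg
  have : a = 0 := Subtype.ext (ha.trans hp)
  have h2 := ha' _ (residue V)
  rw [this, map_zero, map_zero, ev_eq_zero_iff η _ q hq] at h2
  exact h2

/-- An element of `M_η(A)` is determined by its components at minimal primes. -/
theorem M_ext {A : Type u} [CommRing A] {x y : η.N A} (hx : x ∈ η.M A) (hy : y ∈ η.M A)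
    (h : ∀ p : PrimeSpectrum A, p.asIdeal ∈ minimalPrimes A → x p = y p) : x = y := by
  funext q
  obtain ⟨P, hP, hPq⟩ := Ideal.exists_minimalPrimes_le (I := (⊥ : Ideal A)) (J := q.asIdeal) bot_le
  let p : PrimeSpectrum A := ⟨P, hP.1.1⟩
  refine sub_eq_zero.mp (component_eq_zero_of_le η (sub_mem hx hy) (p := p) (q := q) hPq ?_)
  exact sub_eq_zero.mpr (h p hP)

theorem M_ext_domain {A : Type u} [CommRing A] [IsDomain A] {x y : η.N A} (hx : x ∈ η.M A)
    (hy : y ∈ η.M A) (h : x ⟨⊥, Ideal.isPrime_bot⟩ = y ⟨⊥, Ideal.isPrime_bot⟩) : x = y := by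
  refine sub_eq_zero.mp (funext fun q => component_eq_zero_of_le η (sub_mem hx hy)
    (p := ⟨⊥, Ideal.isPrime_bot⟩) (show (⊥ : Ideal A) ≤ q.asIdeal from bot_le) ?_)
  exact sub_eq_zero.mpr h

end Groth.Agent.Lib.EtaPt.Basic
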