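import Groth.Agent.Lib.EtaPt.Rel
import Mathlib.RingTheory.Localization.Integral
import Mathlib.RingTheory.Localization.Away.Basic
import Mathlib.RingTheory.Ideal.MinimalPrime.Localization

/-!
# Compatibility with localization
-/

set_option autoImplicit false

universe u

namespace Groth.Agent.Lib.EtaPt.Loc

open IsLocalRing Polynomial Groth.Agent.Lib.EtaPt.Basic Groth.Agent.Lib.EtaPt.Main

variable (η : EtaPt.FieldEndo.{u}) {A : Type u} [CommRing A] (f : A) (S : Type u) [CommRing S]
  [Algebra A S] [IsLocalization.Away f S]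

theorem notMem_comap (q : PrimeSpectrum S) :
    f ∉ (PrimeSpectrum.comap (algebraMap A S) q).asIdeal := fun h =>
  q.2.ne_top (Ideal.eq_top_of_isUnit_mem _ h (IsLocalization.Away.algebraMap_isUnit f))

theorem exists_extend (y : η.N S) :
    ∃ x : η.N A, η.Nmap (algebraMap A S) x = y ∧
      ∀ p : PrimeSpectrum A, f ∈ p.asIdeal → x p = 0 := by
  have key : ∀ p : PrimeSpectrum A, ∃ v : η.obj p.asIdeal.ResidueField,
      (∀ (q : PrimeSpectrum S) (e : PrimeSpectrum.comap (algebraMap A S) q = p),
        η.map (Ideal.ResidueField.map (PrimeSpectrum.comap (algebraMap A S) q).asIdeal q.asIdeal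
          (algebraMap A S) rfl) (e.symm ▸ v) = y q) ∧ (f ∈ p.asIdeal → v = 0) := by
    intro p
    by_cases hp : f ∈ p.asIdeal
    · exact ⟨0, fun q e => absurd (e.symm ▸ hp) (notMem_comap f S q), fun _ => rfl⟩
    · obtain ⟨q, rfl⟩ : p ∈ Set.range (PrimeSpectrum.comap (algebraMap A S)) := by
        rw [PrimeSpectrum.localization_away_comap_range S f]
        exact hp
      obtain ⟨v, hv⟩ := (map_bijective_of_bijective η _
        ((RingHom.surjectiveOnStalks_of_isLocalization (Submonoid.powers f) S).residueFieldMap_bijective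
          (PrimeSpectrum.comap (algebraMap A S) q).asIdeal q.asIdeal rfl)).2 (y q)
      refine ⟨v, fun q' e => ?_, fun h => absurd h hp⟩
      obtain rfl := PrimeSpectrum.localization_comap_injective S (Submonoid.powers f) e
      exact hv
  choose v hv hv0 using key
  exact ⟨v, funext fun q => hv _ q rfl, hv0⟩

theorem t_mul_eq_zero {x : η.N A} (hx : η.Nmap (algebraMap A S) x = 0) : η.t A f * x = 0 := by
  funext p
  change η.eta _ (res p f) * x p = 0
  by_cases hp : f ∈ p.asIdeal
  · rw [show res p f = 0 from Ideal.algebraMap_residueField_eq_zero.mpr hp, map_zero, zero_mul]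
  · obtain ⟨q, rfl⟩ : p ∈ Set.range (PrimeSpectrum.comap (algebraMap A S)) := by
      rw [PrimeSpectrum.localization_away_comap_range S f]
      exact hp
    rw [show x (PrimeSpectrum.comap (algebraMap A S) q) = 0 from
      (η.map (Ideal.ResidueField.map _ q.asIdeal (algebraMap A S) rfl)).injective
        ((congrFun hx q).trans (map_zero _).symm), mul_zero]

include f in
theorem finite_minimalPrimes (hA : (minimalPrimes A).Finite) : (minimalPrimes S).Finite := by
  refine Set.Finite.of_finite_image (f := Ideal.comap (algebraMap A S)) (hA.subset ?_) ?_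
  · rintro _ ⟨q, hq, rfl⟩
    have := hq.1.1
    refine ⟨⟨inferInstance, bot_le⟩, fun I hI hle => ?_⟩
    have := hI.1
    have hdisj : Disjoint (Submonoid.powers f : Set A) I :=
      Set.disjoint_left.mpr fun s hs hsI => this.ne_top (by
        obtain ⟨n, rfl⟩ := hs
        exact absurd (hle (this.mem_of_pow_mem n hsI)) (notMem_comap f S ⟨q, hq.1.1⟩))
    rw [← IsLocalization.under_map_of_isPrime_disjoint (Submonoid.powers f) S this hdisj]
    exact Ideal.comap_mono (hq.2 ⟨IsLocalization.isPrime_of_isPrime_disjoint _ S I this hdisj, bot_le⟩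
      (Ideal.map_le_iff_le_comap.mpr hle))
  · intro a _ b _ e
    rw [← IsLocalization.map_under (Submonoid.powers f) S a, ← IsLocalization.map_under (Submonoid.powers f) S b]
    exact congrArg (Ideal.map (algebraMap A S)) e

/-- Extension by zero of an element integral over `A` becomes an element of `M` after one
multiplication by `f`. -/
theorem t_mul_mem_M {y : η.N S} (hy : y ∈ η.M S) {P : A[X]} (hP : P.Monic)
    (hP0 : P.eval₂ ((η.t S).comp (algebraMap A S)) y = 0) {x : η.N A}
    (hx : η.Nmap (algebraMap A S) x = y) (hx0 : ∀ p : PrimeSpectrum A, f ∈ p.asIdeal → x p = 0) :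
    η.t A f * x ∈ η.M A := by
  have hQ : x * P.eval₂ (η.t A) x = 0 := by
    funext p
    by_cases hp : f ∈ p.asIdeal
    · rw [Pi.mul_apply, hx0 p hp, zero_mul]; rfl
    · obtain ⟨q, rfl⟩ : p ∈ Set.range (PrimeSpectrum.comap (algebraMap A S)) := by
        rw [PrimeSpectrum.localization_away_comap_range S f]
        exact hp
      have e := hom_eval₂ P (η.t A) (η.Nmap (algebraMap A S)) x
      rw [hx, show (η.Nmap (algebraMap A S)).comp (η.t A) = (η.t S).comp (algebraMap A S) from
        RingHom.ext (Nmap_eq_t η _), hP0] at e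
      rw [Pi.mul_apply, show (P.eval₂ (η.t A) x) (PrimeSpectrum.comap (algebraMap A S) q) = 0 from
        (η.map (Ideal.ResidueField.map _ q.asIdeal (algebraMap A S) rfl)).injective
          ((congrFun e q).trans (map_zero _).symm), mul_zero]
      rfl
  refine mem_M_of_forall η fun R _ _ _ hR g => ?_
  let j : R →+* FractionRing R := algebraMap R _
  obtain ⟨c, hc⟩ := hR.2 (ev η (j.comp g) x)
  have hint : (j.comp g).IsIntegralElem c := by
    refine ⟨X * P, monic_X.mul hP, (η.eta _).injective ?_⟩
    have e := congrArg (ev η (j.comp g)) hQ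
    rw [map_mul, hom_eval₂, ← hc, map_zero, show (ev η (j.comp g)).comp (η.t A) =
      (η.eta (FractionRing R)).comp (j.comp g) from RingHom.ext (ev_t η _)] at e
    rw [eval₂_mul, eval₂_X, map_mul, hom_eval₂, map_zero]
    exact e
  obtain ⟨a, ha⟩ := exists_eq_of_isIntegralElem (isIntegralElem_of_comp g j hint)
  refine ⟨g f * a, fun r => ?_⟩
  by_cases hr : res r (g f) = 0
  · rw [map_mul, ev_t, map_mul, RingHom.comp_apply, hr, map_zero, map_mul, map_zero, zero_mul,
      zero_mul]
  · obtain ⟨V, gR, hgR, hV⟩ := exists_dominating j r (by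
      rw [(RingHom.injective_iff_ker_eq_bot j).mp (IsFractionRing.injective R _)]
      exact bot_le)
    have hu : IsUnit ((gR.comp g) f) := by
      by_contra hu
      apply hr
      rw [Ideal.algebraMap_residueField_eq_zero, ← hV]
      exact (IsLocalRing.residue_eq_zero_iff _).mpr hu
    let gS : S →+* V := IsLocalization.Away.lift f hu
    have hgS : gS.comp (algebraMap A S) = gR.comp g := IsLocalization.Away.lift_comp ..
    have hc' : ev η (V.subtype.comp gS) y = η.eta _ c := by
      rw [← hx, ev_Nmap, RingHom.comp_assoc, hgS, ← RingHom.comp_assoc, hgR, ← hc]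
    obtain ⟨a', ha', ha''⟩ := exists_val η hR hy (V.subtype.comp gS) c hc' V gS rfl
    have : gR a = a' := Subtype.ext ((DFunLike.congr_fun hgR a).trans (ha.trans ha'.symm))
    rw [map_mul, ev_t, map_mul, map_mul]
    congr 1
    refine descend_point η g r ((residue V).comp gR) hV x a ?_
    have h2 := ha'' _ (residue V)
    rw [← hx, ev_Nmap, RingHom.comp_assoc, hgS, ← RingHom.comp_assoc, ← this] at h2
    exact h2

theorem exists_M_extend (hA : (minimalPrimes A).Finite) {y : η.N S} (hy : y ∈ η.M S) :
    ∃ x ∈ η.M A, ∃ n : ℕ,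
      y * η.t S (algebraMap A S f) ^ n = η.Nmap (algebraMap A S) x := by
  obtain ⟨P, hP, hP0⟩ := exists_monic_eval₂_t_eq_zero η S (finite_minimalPrimes f S hA) hy
  let _ : Algebra S (η.N S) := (η.t S).toAlgebra
  let _ : Algebra A (η.N S) := ((η.t S).comp (algebraMap A S)).toAlgebra
  have : IsScalarTower A S (η.N S) := IsScalarTower.of_algebraMap_eq fun _ => rfl
  obtain ⟨⟨_, m, rfl⟩, Q, hQ, hQ0⟩ := IsIntegral.exists_multiple_integral_of_isLocalization
    (Submonoid.powers f) y (⟨P, hP, hP0⟩ : IsIntegral S y)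
  let z : η.N S := η.t S (algebraMap A S f) ^ m * y
  have hz : (f ^ m) • y = z := by
    rw [Algebra.smul_def, map_pow]
    rfl
  obtain ⟨x, hx, hx0⟩ := exists_extend η f S z
  refine ⟨η.t A f * x, t_mul_mem_M η f S
    ((η.M S).mul_mem (pow_mem (η.t_mem_M S _) m) hy) hQ ?_ hx hx0, m + 1, ?_⟩
  · change Polynomial.eval₂ _ z Q = 0
    rw [← hz]
    exact hQ0
  · rw [map_mul, Nmap_eq_t, hx, pow_succ']
    ring

end Groth.Agent.Lib.EtaPt.Loc
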