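import Groth.Agent.Lib.EtaPt.Basic
import Mathlib.RingTheory.IntegralClosure.Algebra.Basic
import Mathlib.FieldTheory.IsAlgClosed.AlgebraicClosure
import Mathlib.RingTheory.Bezout
import Mathlib.Algebra.GCDMonoid.IntegrallyClosed
import Mathlib.RingTheory.Spectrum.Prime.Topology

/-!
# Main properties of the pointwise construction `EtaPt.FieldEndo`
-/

set_option autoImplicit false

universe u

namespace Groth.Agent.Lib.EtaPt.Main

open IsLocalRing Polynomial Groth.Agent.Lib.EtaPt.Basic

variable (η : EtaPt.FieldEndo.{u})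

/-! ### General facts about integral elements -/

theorem isIntegralElem_of_comp {A R K : Type u} [CommRing A] [CommRing R] [CommRing K]
    (g : A →+* R) (j : R →+* K) {c : K} (hc : (j.comp g).IsIntegralElem c) :
    j.IsIntegralElem c := by
  obtain ⟨p, hp, hp0⟩ := hc
  exact ⟨p.map g, hp.map g, by rwa [eval₂_map]⟩

theorem exists_eq_of_isIntegralElem {R K : Type u} [CommRing R] [IsIntegrallyClosed R]
    [CommRing K] [Algebra R K] [IsFractionRing R K] {c : K}
    (hc : (algebraMap R K).IsIntegralElem c) : ∃ a : R, algebraMap R K a = c :=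
  IsIntegrallyClosed.algebraMap_eq_of_integral (R := R) (x := c) hc

theorem isIntegralElem_of_map {R K L : Type u} [CommRing R] [CommRing K] [CommRing L]
    (j : R →+* K) (σ : K →+* L) (hσ : Function.Injective σ) {c : K}
    (hc : (σ.comp j).IsIntegralElem (σ c)) : j.IsIntegralElem c := by
  obtain ⟨p, hp, hp0⟩ := hc
  refine ⟨p, hp, hσ ?_⟩
  rw [hom_eval₂, map_zero]
  exact hp0

theorem isIntegralElem_map {R K L : Type u} [CommRing R] [CommRing K] [CommRing L]
    (j : R →+* K) (σ : K →+* L) {c : K}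
    (hc : j.IsIntegralElem c) : (σ.comp j).IsIntegralElem (σ c) := by
  obtain ⟨p, hp, hp0⟩ := hc
  exact ⟨p, hp, by rw [← hom_eval₂, hp0, map_zero]⟩

/-- To evaluate at a prime it suffices to evaluate at one field-valued point over it. -/
theorem descend_point {A R L : Type u} [CommRing A] [CommRing R] [Field L] (g : A →+* R)
    (r : PrimeSpectrum R) (τ : R →+* L) (hτ : pt τ = r) (x : η.N A) (a : R)
    (h : ev η (τ.comp g) x = η.eta L (τ a)) :
    ev η ((res r).comp g) x = η.eta r.asIdeal.ResidueField (res r a) := by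
  subst hτ
  apply (η.map (liftPt τ)).injective
  rw [← ev_comp, map_eta_apply, ← RingHom.comp_assoc, liftPt_comp, liftPt_algebraMap]
  exact h

/-! ### Integrality of `q` -/

theorem exists_monic_eval₂_t_eq_zero (A : Type u) [CommRing A] (hA : (minimalPrimes A).Finite)
    {x : η.N A} (hx : x ∈ η.M A) : ∃ P : A[X], P.Monic ∧ P.eval₂ (η.t A) x = 0 := by
  classical
  have key : ∀ p : PrimeSpectrum A, ∃ P : A[X], P.Monic ∧ P.eval₂ (etaRes η p) (x p) = 0 :=
    fun p => isIntegralElem_component η hx p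
  choose P hP hP0 using key
  let s : Finset (Ideal A) := hA.toFinset
  let f : {I // I ∈ s} → PrimeSpectrum A := fun I => ⟨I.1, (hA.mem_toFinset.mp I.2).1.1⟩
  refine ⟨∏ I ∈ s.attach, P (f I), monic_prod_of_monic _ _ fun I _ => hP _, ?_⟩
  have hmem : (∏ I ∈ s.attach, P (f I)).eval₂ (η.t A) x ∈ η.M A := by
    have e := hom_eval₂ (∏ I ∈ s.attach, P (f I)) (η.q A) (η.M A).subtype ⟨x, hx⟩
    rw [show (η.M A).subtype.comp (η.q A) = η.t A from rfl] at e
    rw [show (η.M A).subtype ⟨x, hx⟩ = x from rfl] at e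
    rw [← e]
    exact Subtype.prop _
  refine M_ext η hmem (zero_mem _) fun p hp => ?_
  have e := hom_eval₂ (∏ I ∈ s.attach, P (f I)) (η.t A)
    (Pi.evalRingHom (fun p : PrimeSpectrum A => η.obj p.asIdeal.ResidueField) p) x
  refine Eq.trans e ?_
  rw [eval₂_finsetProd]
  exact Finset.prod_eq_zero (i := ⟨p.asIdeal, hA.mem_toFinset.mpr hp⟩) (Finset.mem_attach _ _) (hP0 p)

theorem isIntegral_q (A : Type u) [CommRing A] (hA : (minimalPrimes A).Finite) :
    (η.q A).IsIntegral := by
  intro x
  obtain ⟨P, hP, hP0⟩ := exists_monic_eval₂_t_eq_zero η A hA x.2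
  refine ⟨P, hP, Subtype.ext ?_⟩
  have e := hom_eval₂ P (η.q A) (η.M A).subtype x
  exact e.trans hP0

/-! ### The prime spectrum of `M` -/

/-- The projection of `M_η(A)` to the factor at `p`. -/
noncomputable def proj (A : Type u) [CommRing A] (p : PrimeSpectrum A) :
    η.M A →+* η.obj p.asIdeal.ResidueField :=
  (Pi.evalRingHom (fun p : PrimeSpectrum A => η.obj p.asIdeal.ResidueField) p).comp (η.M A).subtype

theorem proj_comp_q (A : Type u) [CommRing A] (p : PrimeSpectrum A) :
    (proj η A p).comp (η.q A) = etaRes η p := rfl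

theorem comap_q_pt_proj (A : Type u) [CommRing A] (p : PrimeSpectrum A) :
    PrimeSpectrum.comap (η.q A) (pt (proj η A p)) = p := by
  rw [← pt_comp, proj_comp_q, pt_etaRes]

theorem eq_pt_proj (A : Type u) [CommRing A] (hA : (minimalPrimes A).Finite)
    (Q : PrimeSpectrum (η.M A)) : Q = pt (proj η A (PrimeSpectrum.comap (η.q A) Q)) := by
  classical
  let s : Finset (Ideal A) := hA.toFinset
  let f : {I // I ∈ s} → PrimeSpectrum A := fun I => ⟨I.1, (hA.mem_toFinset.mp I.2).1.1⟩
  have h0 : s.attach.inf (fun I => RingHom.ker (proj η A (f I))) ≤ Q.asIdeal := by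
    intro x hx
    have hx0 : x = 0 := Subtype.ext <| M_ext η x.2 (zero_mem _) fun p hp => by
      have := Finset.inf_le (f := fun I => RingHom.ker (proj η A (f I)))
        (Finset.mem_attach s ⟨p.asIdeal, hA.mem_toFinset.mpr hp⟩) hx
      exact this
    rw [hx0]
    exact zero_mem _
  obtain ⟨I, -, hI⟩ := (Ideal.IsPrime.inf_le' Q.2).mp h0
  obtain ⟨V, g', hg', hQ⟩ := exists_dominating (proj η A (f I)) Q hI
  let p := PrimeSpectrum.comap (η.q A) Q
  have hp : pt ((residue V).comp (g'.comp (η.q A))) = p := by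
    rw [← RingHom.comp_assoc, pt_comp, hQ]
  refine PrimeSpectrum.ext (Ideal.ext fun x => ?_)
  obtain ⟨a, ha, ha'⟩ := exists_val η (eta_obj_bijective η _) x.2 (etaRes η (f I))
    ((x : η.N A) (f I)) (ev_etaRes η (f I) x) V (g'.comp (η.q A))
    (by rw [← RingHom.comp_assoc, hg', proj_comp_q])
  have hga : g' x = a := Subtype.ext ((DFunLike.congr_fun hg' x).trans ha.symm)
  have h2 := ha' _ (residue V)
  have hz := (ev_eq_zero_iff η _ p hp x)
  rw [h2, map_eq_zero] at hz
  refine Iff.trans ?_ hz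
  rw [← hga]
  exact (SetLike.ext_iff.mp (congrArg PrimeSpectrum.asIdeal hQ) x).symm

theorem comap_q_bijective (A : Type u) [CommRing A] (hA : (minimalPrimes A).Finite) :
    Function.Bijective (PrimeSpectrum.comap (η.q A)) :=
  ⟨fun Q Q' e => by rw [eq_pt_proj η A hA Q, eq_pt_proj η A hA Q', e],
    fun p => ⟨_, comap_q_pt_proj η A p⟩⟩

/-- A map to `F(k(P))` at `Q` gives the residue factorisation. -/
theorem exists_factor_of_hom {A B : Type u} [CommRing A] [CommRing B] (f : A →+* B)
    (Q : PrimeSpectrum B) {L : Type u} [Field L]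
    (σ : (PrimeSpectrum.comap f Q).asIdeal.ResidueField →+* L)
    (π : B →+* L) (hQ : pt π = Q) (hπ : π.comp f = σ.comp (res (PrimeSpectrum.comap f Q))) :
    ∃ φ : Q.asIdeal.ResidueField →+* L,
      φ.comp (Ideal.ResidueField.map (PrimeSpectrum.comap f Q).asIdeal Q.asIdeal f rfl) = σ := by
  subst hQ
  refine ⟨liftPt π, Ideal.ResidueField.ringHom_ext (RingHom.ext fun a => ?_)⟩
  exact (congrArg (liftPt π) (Ideal.ResidueField.map_algebraMap _ _ f rfl a)).trans
    ((liftPt_algebraMap π (f a)).trans (DFunLike.congr_fun hπ a))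

theorem q_residue_factor (A : Type u) [CommRing A] (hA : (minimalPrimes A).Finite)
    (Q : PrimeSpectrum (η.M A)) :
    ∃ φ : Q.asIdeal.ResidueField →+* η.obj (PrimeSpectrum.comap (η.q A) Q).asIdeal.ResidueField,
      φ.comp (Ideal.ResidueField.map (PrimeSpectrum.comap (η.q A) Q).asIdeal Q.asIdeal (η.q A) rfl) =
        η.eta (PrimeSpectrum.comap (η.q A) Q).asIdeal.ResidueField :=
  exists_factor_of_hom (η.q A) Q _ (proj η A (PrimeSpectrum.comap (η.q A) Q))
    (eq_pt_proj η A hA Q).symm (proj_comp_q η A _)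

/-! ### Bijectivity of `Nmap` -/

theorem Nmap_bijective_of_components {A B : Type u} [CommRing A] [CommRing B] {f : A →+* B}
    (hb : Function.Bijective (PrimeSpectrum.comap f))
    (hc : ∀ Q : PrimeSpectrum B, Function.Surjective
      (η.map (Ideal.ResidueField.map (PrimeSpectrum.comap f Q).asIdeal Q.asIdeal f rfl))) :
    Function.Bijective (η.Nmap f) := by
  refine ⟨Nmap_injective η hb.2, fun y => ?_⟩
  have key : ∀ p : PrimeSpectrum A, ∃ v : η.obj p.asIdeal.ResidueField,
      ∀ (q : PrimeSpectrum B) (e : PrimeSpectrum.comap f q = p),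
        η.map (Ideal.ResidueField.map (PrimeSpectrum.comap f q).asIdeal q.asIdeal f rfl)
          (e.symm ▸ v) = y q := by
    intro p
    obtain ⟨q, rfl⟩ := hb.2 p
    obtain ⟨v, hv⟩ := hc q (y q)
    refine ⟨v, fun q' e => ?_⟩
    obtain rfl := hb.1 e
    exact hv
  choose v hv using key
  exact ⟨v, funext fun q => hv (PrimeSpectrum.comap f q) q rfl⟩

theorem Nmap_bijective_of_factor {A B : Type u} [CommRing A] [CommRing B] {f : A →+* B}
    (hb : Function.Bijective (PrimeSpectrum.comap f))
    (hφ : ∀ Q : PrimeSpectrum B,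
      ∃ φ : Q.asIdeal.ResidueField →+* η.obj (PrimeSpectrum.comap f Q).asIdeal.ResidueField,
        φ.comp (Ideal.ResidueField.map (PrimeSpectrum.comap f Q).asIdeal Q.asIdeal f rfl) =
          η.eta (PrimeSpectrum.comap f Q).asIdeal.ResidueField) :
    Function.Bijective (η.Nmap f) := by
  refine Nmap_bijective_of_components η hb fun Q w => ?_
  obtain ⟨φ, hφ⟩ := hφ Q
  obtain ⟨v, hv⟩ := (η.bijective_map_eta _).2 (η.map φ w)
  refine ⟨v, (η.map φ).injective ?_⟩
  rw [map_map, hφ, hv]

theorem Nmap_q_bijective (A : Type u) [CommRing A] (hA : (minimalPrimes A).Finite) :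
    Function.Bijective (η.Nmap (η.q A)) :=
  Nmap_bijective_of_factor η (comap_q_bijective η A hA) (q_residue_factor η A hA)

/-! ### Maps with bijective `Nmap` -/

theorem exists_hom_of_Nmap_bijective {A B K : Type u} [CommRing A] [CommRing B] [Field K]
    {f : A →+* B} (hN : Function.Bijective (η.Nmap f)) (hK : Function.Bijective (η.eta K))
    (h : A →+* K) : ∃ h' : B →+* K, h'.comp f = h := by
  let e := RingEquiv.ofBijective _ hN
  let eK := RingEquiv.ofBijective _ hK
  refine ⟨eK.symm.toRingHom.comp ((ev η h).comp (e.symm.toRingHom.comp (η.t B))),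
    RingHom.ext fun a => ?_⟩
  change eK.symm (ev η h (e.symm (η.t B (f a)))) = h a
  have : e.symm (η.t B (f a)) = η.t A a :=
    e.injective (by rw [e.apply_symm_apply]; exact (Nmap_eq_t η f a).symm)
  rw [this, ev_t]
  exact eK.symm_apply_apply (h a)

theorem exists_factor {A B : Type u} [CommRing A] [CommRing B] {f : A →+* B}
    (hf : f.IsIntegral) (hN : Function.Bijective (η.Nmap f))
    (R : Type u) [CommRing R] [IsDomain R] [ValuationRing R] (hR : η.InV R) (g : A →+* R) :
    ∃ g' : B →+* R, g'.comp f = g := by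
  obtain ⟨h', hh'⟩ := exists_hom_of_Nmap_bijective η hN hR ((algebraMap R (FractionRing R)).comp g)
  have : ∀ b : B, ∃ r : R, algebraMap R (FractionRing R) r = h' b := fun b => by
    refine exists_eq_of_isIntegralElem (isIntegralElem_of_comp g _ ?_)
    rw [← hh']
    exact isIntegralElem_map f h' (hf b)
  choose r hr using this
  have hi := IsFractionRing.injective R (FractionRing R)
  let g' : B →+* R :=
    { toFun := r
      map_one' := hi (by simp [hr])
      map_mul' := fun a b => hi (by simp [hr])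
      map_zero' := hi (by simp [hr])
      map_add' := fun a b => hi (by simp [hr]) }
  exact ⟨g', RingHom.ext fun a => hi ((hr (f a)).trans (DFunLike.congr_fun hh' a))⟩

theorem bijOn_Nmap_M {A B : Type u} [CommRing A] [CommRing B] (f : A →+* B)
    (hf : f.IsIntegral) (hN : Function.Bijective (η.Nmap f)) :
    Set.BijOn (η.Nmap f) (η.M A) (η.M B) := by
  refine ⟨fun x hx => Nmap_mem_M η f hx, hN.1.injOn, fun y hy => ?_⟩
  obtain ⟨x, rfl⟩ := hN.2 y
  refine ⟨x, fun R _ _ _ hR g => ?_, rfl⟩
  obtain ⟨g', rfl⟩ := exists_factor η hf hN R hR g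
  rw [Nmap_comp]
  exact hy R hR g'

theorem Nmap_q_eq_t (A : Type u) [CommRing A] (hA : (minimalPrimes A).Finite) (x : η.M A) :
    η.Nmap (η.q A) (x : η.N A) = η.t (η.M A) x := by
  funext Q
  obtain ⟨p, hp⟩ : ∃ p, p = PrimeSpectrum.comap (η.q A) Q := ⟨_, rfl⟩
  obtain rfl : Q = pt (proj η A p) := hp ▸ eq_pt_proj η A hA Q
  apply (η.map (liftPt (proj η A p))).injective
  change ev η (proj η A p) (η.Nmap (η.q A) (x : η.N A)) = ev η (proj η A p) (η.t (η.M A) x)
  rw [ev_Nmap, proj_comp_q, ev_etaRes, ev_t]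
  rfl

theorem q_M_bijective (A : Type u) [CommRing A] (hA : (minimalPrimes A).Finite) :
    Function.Bijective (η.q (η.M A)) := by
  have hb := bijOn_Nmap_M η (η.q A) (isIntegral_q η A hA) (Nmap_q_bijective η A hA)
  constructor
  · intro x y e
    exact Subtype.ext (hb.injOn x.2 y.2 (by
      rw [Nmap_q_eq_t η A hA, Nmap_q_eq_t η A hA]
      exact congrArg Subtype.val e))
  · intro y
    obtain ⟨x, hx, hxy⟩ := hb.surjOn y.2
    exact ⟨⟨x, hx⟩, Subtype.ext ((Nmap_q_eq_t η A hA ⟨x, hx⟩).symm.trans hxy)⟩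

theorem existsUnique_lift (A : Type u) [CommRing A]
    (hA : (minimalPrimes A).Finite) (B : Type u) [CommRing B] (g : A →+* B)
    (hg : g.IsIntegral) (hN : Function.Bijective (η.Nmap g)) :
    ∃! g' : B →+* η.M A, g'.comp g = η.q A := by
  let e := RingEquiv.ofBijective _ hN
  have hb := bijOn_Nmap_M η g hg hN
  have hmem : ∀ b, e.symm (η.t B b) ∈ η.M A := fun b => by
    obtain ⟨x, hx, hxb⟩ := hb.surjOn (η.t_mem_M B b)
    exact (show x = e.symm (η.t B b) from e.injective (by rw [e.apply_symm_apply]; exact hxb)) ▸ hx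
  refine ⟨(e.symm.toRingHom.comp (η.t B)).codRestrict (η.M A) hmem, RingHom.ext fun a =>
    Subtype.ext (e.injective ?_), fun g'' hg'' => RingHom.ext fun b => Subtype.ext (e.injective ?_)⟩
  · exact (e.apply_symm_apply _).trans (Nmap_eq_t η g a).symm
  · change η.Nmap g ((g'' b : η.M A) : η.N A) = e (e.symm (η.t B b))
    rw [e.apply_symm_apply]
    have h1 : η.Nmap g'' (η.t B b) = η.Nmap g'' (η.Nmap g ((g'' b : η.M A) : η.N A)) := by
      rw [← Nmap_comp, hg'', Nmap_eq_t, Nmap_q_eq_t η A hA]
    have hinj : Function.Injective (η.Nmap g'') := by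
      intro y z hyz
      obtain ⟨y, rfl⟩ := hN.2 y
      obtain ⟨z, rfl⟩ := hN.2 z
      rw [← Nmap_comp, ← Nmap_comp, hg''] at hyz
      rw [(Nmap_q_bijective η A hA).1 hyz]
    exact (hinj h1).symm

/-! ### Surjective integral maps -/

theorem eta_bijective_of_isAlgClosed (L : Type u) [Field L] [IsAlgClosed L] :
    Function.Bijective (η.eta L) := by
  refine ⟨(η.eta L).injective, fun x => ?_⟩
  obtain ⟨n, a, ha⟩ := η.exists_pow_mem_range_eta L x
  have he : ExpChar L (ringExpChar L) := inferInstance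
  obtain ⟨b, rfl⟩ := IsAlgClosed.exists_pow_nat_eq a (n := ringExpChar L ^ n)
    (pow_pos (expChar_pos L (ringExpChar L)) n)
  have : ExpChar (η.obj L) (ringExpChar L) := expChar_of_injective_ringHom (η.eta L).injective _
  exact ⟨b, pow_inj_of_expChar (ringExpChar L) n ((map_pow _ _ _).symm.trans ha)⟩

theorem exists_lift_algClosed {A B L : Type u} [CommRing A] [CommRing B] [Field L] [IsAlgClosed L]
    (f : A →+* B) (hf : f.IsIntegral) (hs : Function.Surjective (PrimeSpectrum.comap f))
    (h : A →+* L) : ∃ h' : B →+* L, h'.comp f = h := by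
  obtain ⟨q, hq⟩ := hs (pt h)
  let φ : (PrimeSpectrum.comap f q).asIdeal.ResidueField →+* q.asIdeal.ResidueField :=
    Ideal.ResidueField.map _ q.asIdeal f rfl
  obtain ⟨σ, hσ⟩ : ∃ σ : (PrimeSpectrum.comap f q).asIdeal.ResidueField →+* L,
      σ.comp (res _) = h := hq ▸ ⟨liftPt h, liftPt_comp h⟩
  let _ := φ.toAlgebra
  let _ := σ.toAlgebra
  have hint : ∀ b, IsIntegral (PrimeSpectrum.comap f q).asIdeal.ResidueField (res q b) := fun b => by
    refine isIntegralElem_of_comp (res (PrimeSpectrum.comap f q)) φ ?_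
    rw [show φ.comp (res (PrimeSpectrum.comap f q)) = (res q).comp f from
      RingHom.ext fun a => Ideal.ResidueField.map_algebraMap _ _ f rfl a]
    exact isIntegralElem_map f (res q) (hf b)
  have : Algebra.IsAlgebraic (PrimeSpectrum.comap f q).asIdeal.ResidueField q.asIdeal.ResidueField := by
    refine ⟨fun x => ?_⟩
    obtain ⟨b, s, -, rfl⟩ := IsFractionRing.div_surjective (A := B ⧸ q.asIdeal) x
    obtain ⟨b, rfl⟩ := Ideal.Quotient.mk_surjective b
    obtain ⟨s, rfl⟩ := Ideal.Quotient.mk_surjective s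
    rw [Ideal.algebraMap_quotient_residueField_mk, Ideal.algebraMap_quotient_residueField_mk,
      div_eq_mul_inv]
    exact ((hint b).mul (hint s).inv).isAlgebraic
  let τ : q.asIdeal.ResidueField →ₐ[(PrimeSpectrum.comap f q).asIdeal.ResidueField] L :=
    IsAlgClosed.lift
  refine ⟨τ.toRingHom.comp (res q), RingHom.ext fun a => ?_⟩
  change τ (res q (f a)) = h a
  rw [← hσ, show res q (f a) = φ (res _ a) from (Ideal.ResidueField.map_algebraMap _ _ f rfl a).symm]
  exact τ.commutes _

theorem mem_M_of_Nmap_mem {A B : Type u} [CommRing A] [CommRing B] {f : A →+* B}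
    (hf : f.IsIntegral) (hs : Function.Surjective (PrimeSpectrum.comap f)) {x : η.N A}
    (hx : η.Nmap f x ∈ η.M B) : x ∈ η.M A := by
  refine mem_M_of_forall η fun R _ _ _ hR g => ?_
  let K := FractionRing R
  let L := AlgebraicClosure K
  let σ₀ : K →+* L := algebraMap K L
  have hL := eta_bijective_of_isAlgClosed η L
  obtain ⟨c, hc⟩ := hR.2 (ev η ((algebraMap R K).comp g) x)
  obtain ⟨h', hh'⟩ := exists_lift_algClosed f hf hs (σ₀.comp ((algebraMap R K).comp g))
  have hc' : ev η h' (η.Nmap f x) = η.eta L (σ₀ c) := by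
    rw [ev_Nmap, hh', ev_comp, ← hc, map_eta_apply]
  let j : R →+* L := σ₀.comp (algebraMap R K)
  have key : ∀ (V : ValuationSubring L) (gR : R →+* V), V.subtype.comp gR = j →
      ∃ gB : B →+* V, V.subtype.comp gB = h' ∧ gB.comp f = gR.comp g := by
    intro V gR hgR
    have hmem : ∀ b, h' b ∈ V := fun b => by
      obtain ⟨v, hv⟩ := exists_eq_of_isIntegralElem (R := V) (K := L) (c := h' b)
        (isIntegralElem_of_comp (gR.comp g) (algebraMap V L) (by
          rw [show (algebraMap V L).comp (gR.comp g) = h'.comp f by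
            rw [hh', ← RingHom.comp_assoc, ← RingHom.comp_assoc]; exact congrArg (·.comp g) hgR]
          exact isIntegralElem_map f h' (hf b)))
      exact hv ▸ v.2
    refine ⟨h'.codRestrict V.toSubring hmem, rfl, RingHom.ext fun a => Subtype.ext ?_⟩
    exact (DFunLike.congr_fun hh' a).trans (DFunLike.congr_fun hgR (g a)).symm
  have hint : j.IsIntegralElem (σ₀ c) := by
    let _ : Algebra R L := j.toAlgebra
    by_contra hcon
    obtain ⟨V, hV, hcV⟩ := Subring.exists_le_valuationSubring_of_isIntegrallyClosedIn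
      (R := (integralClosure R L).toSubring) hcon
    obtain ⟨gR, hgR⟩ := exists_valuationSubring_of_range_le j V
      fun a => hV (isIntegral_algebraMap (R := R) (x := a))
    obtain ⟨gB, hgB, -⟩ := key V gR hgR
    obtain ⟨a, ha, -⟩ := exists_val η hL hx h' (σ₀ c) hc' V gB hgB
    exact hcV (ha ▸ a.2)
  obtain ⟨a, ha⟩ := exists_eq_of_isIntegralElem
    (isIntegralElem_of_map (algebraMap R K) σ₀ σ₀.injective hint)
  refine ⟨a, fun r => ?_⟩
  obtain ⟨V, gR, hgR, hr⟩ := exists_dominating j r (by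
    rw [(RingHom.injective_iff_ker_eq_bot j).mp
      (σ₀.injective.comp (IsFractionRing.injective R K))]
    exact bot_le)
  obtain ⟨gB, hgB, hgBf⟩ := key V gR hgR
  obtain ⟨a', ha', ha''⟩ := exists_val η hL hx h' (σ₀ c) hc' V gB hgB
  have : gR a = a' := Subtype.ext ((DFunLike.congr_fun hgR a).trans (by rw [ha', ← ha]; rfl))
  refine descend_point η g r ((residue V).comp gR) hr x a ?_
  have h2 := ha'' _ (residue V)
  rw [ev_Nmap, RingHom.comp_assoc, hgBf, ← RingHom.comp_assoc, ← this] at h2
  exact h2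

end Groth.Agent.Lib.EtaPt.Main
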