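import Groth.Agent.Lib.EtaPt.Main
import Mathlib.RingTheory.IntegralClosure.IsIntegralClosure.Basic

/-!
# The relative construction `rel` and `qRel`
-/

set_option autoImplicit false

universe u

namespace Groth.Agent.Lib.EtaPt.Rel

open Polynomial Groth.Agent.Lib.EtaPt.Basic Groth.Agent.Lib.EtaPt.Main

variable (η : EtaPt.FieldEndo.{u}) {A B : Type u} [CommRing A] [CommRing B]

theorem mem_rel_iff (f : A →+* B) (b : B) :
    b ∈ η.rel f ↔ ∃ x ∈ η.M A, η.Nmap f x = η.t B b := Iff.rfl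

theorem qRel_injective_iff (f : A →+* B) :
    Function.Injective (η.qRel f) ↔ Function.Injective f :=
  ⟨fun h a b e => h (Subtype.ext e), fun h a b e => h (congrArg Subtype.val e)⟩

theorem qRel_surjective_iff (f : A →+* B) :
    Function.Surjective (η.qRel f) ↔ ∀ b ∈ η.rel f, ∃ a, f a = b :=
  ⟨fun h b hb => (h ⟨b, hb⟩).imp fun _ e => congrArg Subtype.val e,
    fun h b => (h b b.2).imp fun _ e => Subtype.ext e⟩

theorem qRel_bijective_iff (f : A →+* B) :
    Function.Bijective (η.qRel f) ↔ Function.Injective f ∧ ∀ b ∈ η.rel f, ∃ a, f a = b :=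
  and_congr (qRel_injective_iff η f) (qRel_surjective_iff η f)

theorem map_mem_rel_of_square {A' B' : Type u} [CommRing A'] [CommRing B'] {f : A →+* B}
    {f' : A' →+* B'} (α : A →+* A') (β : B →+* B') (h : β.comp f = f'.comp α) {b : B}
    (hb : b ∈ η.rel f) : β b ∈ η.rel f' := by
  obtain ⟨x, hx, hxb⟩ := hb
  refine ⟨η.Nmap α x, Nmap_mem_M η α hx, ?_⟩
  rw [← Nmap_comp, ← h, Nmap_comp, hxb, Nmap_eq_t]

theorem exists_psi (f : A →+* B) (hs : Function.Surjective (PrimeSpectrum.comap f)) :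
    ∃ ψ : η.rel f →+* η.M A, ∀ b : η.rel f, η.Nmap f (ψ b : η.N A) = η.t B b := by
  have h : ∀ b : η.rel f, ∃ x : η.M A, η.Nmap f (x : η.N A) = η.t B b := fun b => by
    obtain ⟨x, hx, e⟩ := b.2
    exact ⟨⟨x, hx⟩, e⟩
  choose ψ hψ using h
  have hi : ∀ x y : η.M A, η.Nmap f (x : η.N A) = η.Nmap f (y : η.N A) → x = y := fun x y e =>
    Subtype.ext (Nmap_injective η hs e)
  exact ⟨{ toFun := ψ
           map_one' := hi _ _ (by rw [hψ]; simp)
           map_mul' := fun a b => hi _ _ (by rw [hψ]; simp [hψ])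
           map_zero' := hi _ _ (by rw [hψ]; simp)
           map_add' := fun a b => hi _ _ (by rw [hψ]; simp [hψ]) }, hψ⟩

theorem psi_comp_qRel {f : A →+* B} (hs : Function.Surjective (PrimeSpectrum.comap f))
    {ψ : η.rel f →+* η.M A} (hψ : ∀ b : η.rel f, η.Nmap f (ψ b : η.N A) = η.t B b) :
    ψ.comp (η.qRel f) = η.q A :=
  RingHom.ext fun a => Subtype.ext (Nmap_injective η hs ((hψ _).trans (Nmap_eq_t η f a).symm))

theorem isNilpotent_of_psi_eq_zero {f : A →+* B}
    {ψ : η.rel f →+* η.M A} (hψ : ∀ b : η.rel f, η.Nmap f (ψ b : η.N A) = η.t B b)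
    {b : η.rel f} (hb : ψ b = 0) : IsNilpotent b := by
  have : η.t B b = 0 := by rw [← hψ, hb]; simp
  obtain ⟨n, hn⟩ := (t_eq_zero_iff η _).mp this
  exact ⟨n, Subtype.ext (by simpa using hn)⟩

theorem isIntegral_qRel (hA : (minimalPrimes A).Finite) (f : A →+* B)
    (hs : Function.Surjective (PrimeSpectrum.comap f)) : (η.qRel f).IsIntegral := by
  intro b
  obtain ⟨ψ, hψ⟩ := exists_psi η f hs
  obtain ⟨P, hP, hP0⟩ := isIntegral_q η A hA (ψ b)
  rw [← psi_comp_qRel η hs hψ] at hP0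
  obtain ⟨n, hn⟩ : IsNilpotent (P.eval₂ (η.qRel f) b) :=
    isNilpotent_of_psi_eq_zero η hψ (by rw [hom_eval₂]; exact hP0)
  exact ⟨P ^ n, hP.pow n, by rw [eval₂_pow, hn]⟩

theorem comap_psi_surjective (hA : (minimalPrimes A).Finite) {f : A →+* B}
    (hs : Function.Surjective (PrimeSpectrum.comap f))
    {ψ : η.rel f →+* η.M A} (hψ : ∀ b : η.rel f, η.Nmap f (ψ b : η.N A) = η.t B b) :
    Function.Surjective (PrimeSpectrum.comap ψ) := by
  have hint : ψ.IsIntegral := RingHom.IsIntegral.tower_top (η.qRel f) ψ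
    (by rw [psi_comp_qRel η hs hψ]; exact isIntegral_q η A hA)
  intro Q
  let _ := ψ.toAlgebra
  have : Algebra.IsIntegral (η.rel f) (η.M A) := ⟨hint⟩
  obtain ⟨Q', -, hQ', e⟩ := Ideal.exists_ideal_over_prime_of_isIntegral Q.asIdeal (⊥ : Ideal (η.M A))
    (fun b hb => (Ideal.IsPrime.mem_of_pow_mem Q.2 _
      ((isNilpotent_of_psi_eq_zero η hψ hb).choose_spec.symm ▸ Q.asIdeal.zero_mem)))
  exact ⟨⟨Q', hQ'⟩, PrimeSpectrum.ext e⟩

theorem comap_qRel_bijective (hA : (minimalPrimes A).Finite) (f : A →+* B)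
    (hs : Function.Surjective (PrimeSpectrum.comap f)) :
    Function.Bijective (PrimeSpectrum.comap (η.qRel f)) := by
  obtain ⟨ψ, hψ⟩ := exists_psi η f hs
  have h : PrimeSpectrum.comap (η.qRel f) ∘ PrimeSpectrum.comap ψ = PrimeSpectrum.comap (η.q A) :=
    funext fun Q => by rw [← psi_comp_qRel η hs hψ]; rfl
  have hb := comap_q_bijective η A hA
  rw [← h] at hb
  exact ⟨hb.1.of_comp_right (comap_psi_surjective η hA hs hψ), hb.2.of_comp⟩

theorem qRel_residue_factor (hA : (minimalPrimes A).Finite) (f : A →+* B)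
    (hs : Function.Surjective (PrimeSpectrum.comap f)) (Q : PrimeSpectrum (η.rel f)) :
    ∃ φ : Q.asIdeal.ResidueField →+* η.obj (PrimeSpectrum.comap (η.qRel f) Q).asIdeal.ResidueField,
      φ.comp (Ideal.ResidueField.map (PrimeSpectrum.comap (η.qRel f) Q).asIdeal Q.asIdeal (η.qRel f) rfl) =
        η.eta (PrimeSpectrum.comap (η.qRel f) Q).asIdeal.ResidueField := by
  obtain ⟨ψ, hψ⟩ := exists_psi η f hs
  have hc : ∀ p, ((proj η A p).comp ψ).comp (η.qRel f) = etaRes η p := fun p => by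
    rw [RingHom.comp_assoc, psi_comp_qRel η hs hψ, proj_comp_q]
  refine exists_factor_of_hom (η.qRel f) Q _ ((proj η A _).comp ψ) ?_ (hc _)
  apply (comap_qRel_bijective η hA f hs).1
  rw [← pt_comp, hc, pt_etaRes]

theorem rel_comp_range_le {B' : Type u} [CommRing B'] (f₁ : A →+* B') (f₂ : B' →+* B)
    (h₁ : f₁.IsIntegral) (hN : Function.Bijective (η.Nmap f₁)) :
    f₂.range ≤ η.rel (f₂.comp f₁) := by
  rintro _ ⟨b', rfl⟩
  obtain ⟨x, hx, e⟩ := (bijOn_Nmap_M η f₁ h₁ hN).surjOn (η.t_mem_M B' b')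
  exact ⟨x, hx, by rw [Nmap_comp, e, Nmap_eq_t]⟩

theorem qRel_bijective_comp {C : Type u} [CommRing C] (f : A →+* B) (g : B →+* C)
    (hg : Function.Surjective (PrimeSpectrum.comap g))
    (h1 : Function.Bijective (η.qRel f)) (h2 : Function.Bijective (η.qRel g)) :
    Function.Bijective (η.qRel (g.comp f)) := by
  rw [qRel_bijective_iff] at *
  refine ⟨h2.1.comp h1.1, fun c ⟨x, hx, e⟩ => ?_⟩
  rw [Nmap_comp] at e
  obtain ⟨b, rfl⟩ := h2.2 c ⟨η.Nmap f x, Nmap_mem_M η f hx, e⟩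
  rw [← Nmap_eq_t] at e
  obtain ⟨a, rfl⟩ := h1.2 b ⟨x, hx, Nmap_injective η hg e⟩
  exact ⟨a, rfl⟩

theorem qRel_bijective_of_comp {C : Type u} [CommRing C] (f : A →+* B) (g : B →+* C)
    (hg : Function.Injective g) (h : Function.Bijective (η.qRel (g.comp f))) :
    Function.Bijective (η.qRel f) := by
  rw [qRel_bijective_iff] at *
  refine ⟨fun a b e => h.1 (congrArg g e), fun b hb => ?_⟩
  obtain ⟨a, ha⟩ := h.2 (g b) (map_mem_rel_of_square η (RingHom.id A) g
    (RingHom.comp_id _).symm hb)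
  exact ⟨a, hg ha⟩

/-- If `f` is injective then elements of `M` agreeing after `g` agree. -/
theorem M_ext_of_injective {C : Type u} [CommRing C] {g : B →+* C} (hg : Function.Injective g)
    {x y : η.N B} (hx : x ∈ η.M B) (hy : y ∈ η.M B) (h : η.Nmap g x = η.Nmap g y) : x = y := by
  refine M_ext η hx hy fun p hp => ?_
  obtain ⟨q, hq, e⟩ := Ideal.exists_comap_eq_of_mem_minimalPrimes_of_injective hg p.asIdeal hp
  obtain rfl : PrimeSpectrum.comap g ⟨q, hq⟩ = p := PrimeSpectrum.ext e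
  exact (η.map _).injective (congrFun h ⟨q, hq⟩)

end Groth.Agent.Lib.EtaPt.Rel
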