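import Groth.Agent.Lib.EtaPt.Main
import Mathlib.FieldTheory.Perfect

/-!
# The ring `M` of a valuation ring
-/

set_option autoImplicit false

universe u

namespace Groth.Agent.Lib.EtaPt.Val

open Groth.Agent.Lib.EtaPt.Basic Groth.Agent.Lib.EtaPt.Main

variable (η : EtaPt.FieldEndo.{u})

theorem exists_root {L : Type u} [Field L] [PerfectField L] (e n : ℕ) [ExpChar L e] (c : L) :
    ∃ d : L, d ^ e ^ n = c := by
  obtain ⟨d, hd⟩ := (iterateFrobeniusEquiv L e n).surjective c
  exact ⟨d, by rwa [iterateFrobeniusEquiv_def] at hd⟩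

theorem exists_mem_M_of_isIntegralElem (R : Type u) [CommRing R] [IsDomain R] [ValuationRing R]
    (hη : η.InV R ∨ ∀ (k : Type u) [Field k], ringChar k = ringChar R →
      Function.Bijective (η.eta k) → PerfectField k)
    {y : η.obj (⊥ : Ideal R).ResidueField}
    (hy : ((η.eta (⊥ : Ideal R).ResidueField).comp
      (algebraMap R (⊥ : Ideal R).ResidueField)).IsIntegralElem y) :
    ∃ x ∈ η.M R, x ⟨⊥, Ideal.isPrime_bot⟩ = y := by
  let K := (⊥ : Ideal R).ResidueField
  rcases hη with hη | hη
  · obtain ⟨c, rfl⟩ := ((inV_iff η (K := K)).mp hη).2 y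
    obtain ⟨a, rfl⟩ := exists_eq_of_isIntegralElem (isIntegralElem_of_map _ _ (η.eta K).injective hy)
    exact ⟨η.t R a, η.t_mem_M R a, rfl⟩
  obtain ⟨n, c, hc⟩ := η.exists_pow_mem_range_eta K y
  obtain ⟨a, ha⟩ : ∃ a, algebraMap R K a = c := by
    refine exists_eq_of_isIntegralElem (isIntegralElem_of_map _ _ (η.eta K).injective ?_)
    let _ := ((η.eta K).comp (algebraMap R K)).toAlgebra
    rw [hc]
    exact IsIntegral.pow (hy : IsIntegral R y) _
  have heK : ExpChar K (ringExpChar K) := inferInstance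
  revert hc heK
  generalize ringExpChar K = e
  intro hc heK
  have heR : ExpChar R e := RingHom.expChar _ (IsFractionRing.injective R K) e
  rcases heR with _ | ⟨hp⟩
  · refine ⟨η.t R a, η.t_mem_M R a, ?_⟩
    rw [one_pow, pow_one] at hc
    exact (congrArg (η.eta K) ha).trans hc
  have hchar : ∀ (L : Type u) [Field L], (R →+* L) → CharP L e := fun L _ σ =>
    (CharP.charP_iff_prime_eq_zero hp).mpr (by rw [← map_natCast σ e, CharP.cast_eq_zero, map_zero])
  have hexp : ∀ (L : Type u) [Field L], (R →+* L) → ExpChar L e := fun L _ σ => by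
    have := hchar L σ
    exact ExpChar.prime hp
  have hperf : ∀ (L : Type u) [Field L], (R →+* L) → Function.Bijective (η.eta L) → PerfectField L :=
    fun L _ σ hL => by
      have := hchar L σ
      exact hη L ((ringChar.eq L e).trans (ringChar.eq R e).symm) hL
  have key : ∀ r : PrimeSpectrum R, ∃ v : η.obj r.asIdeal.ResidueField,
      v ^ e ^ n = etaRes η r a := fun r => by
    have := hexp _ (etaRes η r)
    have := hperf _ (etaRes η r) (eta_obj_bijective η _)
    exact exists_root e n _
  choose x hx using key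
  have hxt : x ^ e ^ n = η.t R a := funext hx
  refine ⟨x, mem_M_of_forall η fun R' _ _ _ hR' g => ?_, ?_⟩
  · let j : R' →+* FractionRing R' := algebraMap R' _
    have := hexp _ (j.comp g)
    have := hperf _ (j.comp g) hR'
    obtain ⟨d, hd⟩ := exists_root e n (j (g a))
    obtain ⟨b, rfl⟩ := IsIntegrallyClosed.algebraMap_eq_of_integral
      (IsIntegral.of_pow (pow_pos hp.pos n) (hd ▸ isIntegral_algebraMap (R := R') (x := g a)))
    have hb : b ^ e ^ n = g a := IsFractionRing.injective R' (FractionRing R') (by rw [map_pow]; exact hd)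
    refine ⟨b, fun r => ?_⟩
    have := hexp _ ((η.eta r.asIdeal.ResidueField).comp ((res r).comp g))
    apply pow_inj_of_expChar e n
    rw [← map_pow, hxt, ev_t, ← map_pow, ← map_pow, hb]
    rfl
  · have := hexp _ (etaRes η (⟨⊥, Ideal.isPrime_bot⟩ : PrimeSpectrum R))
    apply pow_inj_of_expChar e n
    rw [hx, ← hc]
    exact congrArg (η.eta K) ha

theorem image_M_eq (R : Type u) [CommRing R] [IsDomain R] [ValuationRing R]
    (hη : η.InV R ∨ ∀ (k : Type u) [Field k], ringChar k = ringChar R →
      Function.Bijective (η.eta k) → PerfectField k) :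
    (fun x : η.N R => x ⟨⊥, Ideal.isPrime_bot⟩) '' (η.M R : Set (η.N R)) =
      {y | ((η.eta (⊥ : Ideal R).ResidueField).comp
        (algebraMap R (⊥ : Ideal R).ResidueField)).IsIntegralElem y} :=
  Set.Subset.antisymm
    (by rintro _ ⟨x, hx, rfl⟩; exact isIntegralElem_component η hx ⟨⊥, Ideal.isPrime_bot⟩)
    (fun _ hy => exists_mem_M_of_isIntegralElem η R hη hy)

end Groth.Agent.Lib.EtaPt.Val
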